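import Mathlib

/-!
# Ranks, residue fields and lengths for the index of a generic fibre
-/

set_option autoImplicit false
set_option backward.isDefEq.respectTransparency false
set_option linter.style.haveILetI false

universe u

open IsLocalRing

namespace Groth.Agent.IndexMultLib

/-- The rank of a finite algebra over a domain lies in any subgroup containing the ranks of its quotients
by the primes over zero. -/
theorem rank_mem {R : Type u} [CommRing R] [IsDomain R] [IsNoetherianRing R] (C : Type u) [CommRing C]
    [Algebra R C] [Module.Finite R C] (H : AddSubgroup ℤ)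
    (hH : ∀ (p : Ideal C) [p.IsPrime], p.comap (algebraMap R C) = ⊥ →
      (Module.finrank R (C ⧸ p) : ℤ) ∈ H) :
    (Module.finrank R C : ℤ) ∈ H := by
  haveI : IsNoetherianRing C := IsNoetherianRing.of_finite R C
  suffices key : ∀ (N : Type u) [AddCommGroup N] [Module C N] [Module R N] [IsScalarTower R C N]
      [Module.Finite C N], (Module.finrank R N : ℤ) ∈ H from key C
  intro N _ _ iR iT hfin
  refine IsNoetherianRing.induction_on_isQuotientEquivQuotientPrime C hfin
    (motive := fun N _ _ _ => ∀ [Module R N] [IsScalarTower R C N], (Module.finrank R N : ℤ) ∈ H)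
    ?_ ?_ ?_
  · intro N _ _ _ _ _ _
    rw [Module.finrank_zero_of_subsingleton]
    exact H.zero_mem
  · intro N _ _ _ p e _ _
    rw [(e.restrictScalars R).finrank_eq]
    by_cases hp : p.asIdeal.comap (algebraMap R C) = ⊥
    · exact hH p.asIdeal hp
    · obtain ⟨r, hr, hr0⟩ := Submodule.exists_mem_ne_zero_of_ne_bot hp
      have h0 : Module.rank R (C ⧸ p.asIdeal) = 0 := by
        rw [rank_eq_zero_iff]
        intro x
        refine ⟨r, hr0, ?_⟩
        obtain ⟨x, rfl⟩ := Ideal.Quotient.mk_surjective x
        rw [Algebra.smul_def, IsScalarTower.algebraMap_apply R C (C ⧸ p.asIdeal),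
          Ideal.Quotient.algebraMap_eq, ← map_mul, Ideal.Quotient.eq_zero_iff_mem]
        exact Ideal.mul_mem_right x _ hr
      rw [Module.finrank, h0]
      simp
  · intro N₁ _ _ _ N₂ _ _ _ N₃ _ _ _ f g hf hg hex h1 h3 _ _
    letI : Module R N₁ := Module.compHom N₁ (algebraMap R C)
    haveI : IsScalarTower R C N₁ := ⟨fun r c x => by
      show (r • c) • x = algebraMap R C r • c • x
      rw [Algebra.smul_def, mul_smul]⟩
    letI : Module R N₃ := Module.compHom N₃ (algebraMap R C)
    haveI : IsScalarTower R C N₃ := ⟨fun r c x => by
      show (r • c) • x = algebraMap R C r • c • x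
      rw [Algebra.smul_def, mul_smul]⟩
    haveI : Module.Finite R N₂ := Module.Finite.trans C N₂
    let f' := f.restrictScalars R
    let g' := g.restrictScalars R
    have hsum := Submodule.finrank_quotient_add_finrank (LinearMap.range f')
    have e1 : Module.finrank R (LinearMap.range f') = Module.finrank R N₁ :=
      (LinearEquiv.ofInjective f' hf).finrank_eq.symm
    have hk : LinearMap.ker g' = LinearMap.range f' := LinearMap.exact_iff.1 hex
    have e2 : Module.finrank R (N₂ ⧸ LinearMap.range f') = Module.finrank R N₃ := by
      rw [← hk]
      exact (LinearMap.quotKerEquivOfSurjective g' hg).finrank_eq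
    rw [← hsum, e1, e2, Nat.cast_add]
    exact H.add_mem h3 h1

/-- Along a map which is surjective on stalks the rank of a prime quotient is the degree of the residue
field of the prime below. -/
theorem finrank_quotient_eq {R A C : Type u} [CommRing R] [CommRing A] [CommRing C] [Algebra R A]
    [Algebra R C] (f : A →ₐ[R] C) (hf : f.toRingHom.SurjectiveOnStalks) (p : Ideal C) [p.IsPrime]
    (P : Ideal A) [P.IsPrime] (hP : P = p.comap f.toRingHom) :
    Module.finrank R (C ⧸ p) = Module.finrank R P.ResidueField := by
  rw [IsFractionRing.finrank_left_eq (R := R) (S := C ⧸ p) p.ResidueField]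
  exact (LinearEquiv.ofBijective (Ideal.ResidueField.mapₐ P p f hP).toLinearMap
    (hf.residueFieldMap_bijective P p hP)).finrank_eq.symm

/-- Length of a ring over itself is invariant under isomorphisms. -/
theorem length_congr {S T : Type u} [CommRing S] [CommRing T] (e : S ≃+* T) :
    Module.length S S = Module.length T T := by
  letI := e.toRingHom.toAlgebra
  haveI : IsScalarTower S T T := IsScalarTower.right
  rw [← Module.length_eq_of_surjective (R := T) (S := S) (M := T) e.surjective]
  exact LinearEquiv.length_eq
    (LinearEquiv.ofBijective (Algebra.linearMap S T) e.bijective)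

end Groth.Agent.IndexMultLib
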