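import Mathlib
import Groth.Agent.IndexMultLib.Basic
import Groth.Agent.Hensel.QuasiFinite
import Groth.Agent.GenSmoothPerf.Basic
import Groth.Agent.RegLocal.Basic
import Groth.Agent.AcyclicLemma.Basic

/-!
# The index of the generic fibre divides the rank of an infinitesimal neighbourhood of a smooth special fibre
-/

set_option autoImplicit false
set_option backward.isDefEq.respectTransparency false
set_option linter.style.haveILetI false

universe u

open IsLocalRing RingTheory.Sequence
open scoped Pointwise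

namespace Groth.Agent.IndexMultLib

/-- A smooth algebra over an algebraically closed field has a rational point with a system of parameters
made of elements of the algebra. -/
theorem exists_point {k B : Type u} [Field k] [IsAlgClosed k] [CommRing B] [Nontrivial B] [Algebra k B]
    [Algebra.Smooth k B] :
    ∃ (m : Ideal B) (_ : m.IsMaximal) (ε : B →+* k) (d : ℕ) (b : Fin d → B) (t : B),
      RingHom.ker ε = m ∧ (∀ c, ε (algebraMap k B c) = c) ∧ (∀ i, b i ∈ m) ∧ t ∉ m ∧
      (∀ x ∈ m, t * x ∈ Ideal.span (Set.range b)) ∧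
      IsWeaklyRegular (Localization.AtPrime m)
        (List.ofFn fun i => algebraMap B (Localization.AtPrime m) (b i)) := by
  classical
  obtain ⟨m, hm⟩ := Ideal.exists_maximal B
  haveI : Algebra.FiniteType k B := inferInstance
  letI := Ideal.Quotient.field m
  haveI : Algebra.FiniteType k (B ⧸ m) := inferInstance
  haveI : Module.Finite k (B ⧸ m) := finite_of_finite_type_of_isJacobsonRing k (B ⧸ m)
  haveI : Algebra.IsIntegral k (B ⧸ m) := Algebra.IsIntegral.of_finite k _
  let e : k ≃+* B ⧸ m :=
    RingEquiv.ofBijective (algebraMap k (B ⧸ m)) IsAlgClosed.algebraMap_bijective_of_isIntegral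
  let ε : B →+* k := e.symm.toRingHom.comp (Ideal.Quotient.mk m)
  haveI : IsRegularLocalRing (Localization.AtPrime m) :=
    (Groth.Agent.GenSmoothPerf.isSmoothAt_iff_regular (k := k) m).1
      (show Algebra.FormallySmooth k (Localization.AtPrime m) from
        (Algebra.smoothLocus_eq_univ (R := k) (A := B)).ge (Set.mem_univ (⟨m, hm.isPrime⟩ : PrimeSpectrum B)))
  obtain ⟨x, hx⟩ := RegLocal.exists_generators (R := Localization.AtPrime m)
  have hspec : ∀ i, ∃ b : B, b ∈ m ∧ Associated (algebraMap B (Localization.AtPrime m) b) (x i) := by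
    intro i
    obtain ⟨b, s, hbs⟩ := IsLocalization.exists_mk'_eq m.primeCompl (x i)
    have hu := IsLocalization.map_units (Localization.AtPrime m) s
    refine ⟨b, ?_, ?_⟩
    · refine (IsLocalization.AtPrime.to_map_mem_maximal_iff (Localization.AtPrime m) m b).1 ?_
      rw [← IsLocalization.mk'_spec (Localization.AtPrime m) b s, hbs]
      exact Ideal.mul_mem_right _ _ (hx.le (Ideal.subset_span ⟨i, rfl⟩))
    · exact (show Associated (x i) (algebraMap B (Localization.AtPrime m) b) from
        ⟨hu.unit, by rw [IsUnit.unit_spec, ← hbs, IsLocalization.mk'_spec]⟩).symm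
  choose b hb hass using hspec
  have hgen : Ideal.span (Set.range fun i => algebraMap B (Localization.AtPrime m) (b i)) =
      maximalIdeal (Localization.AtPrime m) := by
    refine le_antisymm ?_ ?_
    · rw [Ideal.span_le]
      rintro _ ⟨i, rfl⟩
      exact (IsLocalization.AtPrime.to_map_mem_maximal_iff (Localization.AtPrime m) m (b i)).2 (hb i)
    · refine hx.ge.trans ?_
      rw [Ideal.span_le]
      rintro _ ⟨i, rfl⟩
      exact Ideal.mem_of_dvd _ (hass i).dvd (Ideal.subset_span ⟨i, rfl⟩)
  have hmap : (Ideal.span (Set.range b)).map (algebraMap B (Localization.AtPrime m)) =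
      maximalIdeal (Localization.AtPrime m) := by
    exact (Ideal.map_span _ _).trans ((congrArg Ideal.span (Set.range_comp _ _).symm).trans hgen)
  haveI : IsNoetherianRing B := Algebra.FiniteType.isNoetherianRing k B
  obtain ⟨s, hs⟩ := (IsNoetherian.noetherian m : m.FG)
  have hev : ∀ y ∈ s, ∃ t ∉ m, t * y ∈ Ideal.span (Set.range b) := by
    intro y hy
    have hy' : algebraMap B (Localization.AtPrime m) y ∈
        (Ideal.span (Set.range b)).map (algebraMap B (Localization.AtPrime m)) := by
      rw [hmap, IsLocalization.AtPrime.to_map_mem_maximal_iff (Localization.AtPrime m) m]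
      exact hs ▸ Ideal.subset_span hy
    obtain ⟨t, ht, hty⟩ := (IsLocalization.algebraMap_mem_map_algebraMap_iff m.primeCompl _ _ _).1 hy'
    exact ⟨t, ht, hty⟩
  choose! T hT hTy using hev
  refine ⟨m, hm, ε, _, b, ∏ y ∈ s, T y, ?_, ?_, hb, ?_, ?_, ?_⟩
  · ext y
    rw [RingHom.mem_ker]
    show e.symm (Ideal.Quotient.mk m y) = 0 ↔ _
    rw [map_eq_zero_iff _ e.symm.injective, Ideal.Quotient.eq_zero_iff_mem]
  · intro c
    exact e.symm_apply_apply c
  · exact Submonoid.prod_mem m.primeCompl fun y hy => hT y hy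
  · intro y hy
    rw [← hs] at hy
    induction hy using Submodule.span_induction with
    | mem y hy =>
      obtain ⟨c, hc⟩ := Finset.dvd_prod_of_mem T (show y ∈ s from hy)
      rw [hc, mul_comm (T y) c, mul_assoc]
      exact Ideal.mul_mem_left _ c (hTy y hy)
    | zero => simp
    | add y z _ _ h1 h2 => rw [mul_add]; exact add_mem h1 h2
    | smul c y _ h1 => rw [smul_eq_mul, mul_left_comm]; exact Ideal.mul_mem_left _ c h1
  · exact (RegLocal.isRegular_of_generators (Localization.AtPrime m)
      ((isRegularLocalRing_iff _).1 inferInstance).symm _ hgen).1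

/-- The core statement. -/
theorem core {R : Type u} [CommRing R] [IsDomain R] [IsDiscreteValuationRing R] [HenselianLocalRing R]
    [IsAlgClosed (ResidueField R)] {A : Type u} [CommRing A] [Algebra R A] [Algebra.FiniteType R A]
    [Module.Flat R A] {A' : Type u} [CommRing A'] [Algebra (ResidueField R) A'] (π : A →+* A')
    (hπ : Function.Surjective π)
    (hπR : ∀ r, π (algebraMap R A r) = algebraMap (ResidueField R) A' (residue R r))
    (hker : RingHom.ker π ≤ (maximalIdeal R).map (algebraMap R A))
    {B : Type u} [CommRing B] [IsDomain B] [Algebra (ResidueField R) B]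
    [Algebra.Smooth (ResidueField R) B] [Algebra B A'] [IsScalarTower (ResidueField R) B A']
    [Module.Free B A'] [Module.Finite B A'] (ρ : A' →+* B) (hρ : ∀ b, ρ (algebraMap B A' b) = b)
    (hnil : ∀ x, ρ x = 0 → IsNilpotent x) (H : AddSubgroup ℤ)
    (hH : ∀ (P : Ideal A) [P.IsPrime], P.comap (algebraMap R A) = ⊥ →
      Module.finrank R P.ResidueField ≠ 0 → (Module.finrank R P.ResidueField : ℤ) ∈ H) :
    (Module.finrank B A' : ℤ) ∈ H := by
  classical
  obtain ⟨m, hmmax, ε, d, b, t, hεk, hεc, hb, ht, htm, hreg⟩ :=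
    exists_point (k := ResidueField R) (B := B)
  haveI := hmmax
  obtain ⟨ϖ, hϖ⟩ := IsDiscreteValuationRing.exists_irreducible R
  have hmR : maximalIdeal R = Ideal.span {ϖ} := hϖ.maximalIdeal_eq
  haveI : IsNoetherianRing A := Algebra.FiniteType.isNoetherianRing R A
  have hkerϖ : ∀ a, π a = 0 → ∃ c, c * algebraMap R A ϖ = a := by
    intro a ha
    have h1 := hker ha
    rw [hmR, Ideal.map_span, Set.image_singleton] at h1
    exact Ideal.mem_span_singleton'.1 h1
  have hπϖ : π (algebraMap R A ϖ) = 0 := by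
    rw [hπR, (residue_eq_zero_iff ϖ).2 (hmR ▸ Ideal.mem_span_singleton_self ϖ), map_zero]
  -- the maximal ideals
  have hρs : Function.Surjective ρ := fun y => ⟨_, hρ y⟩
  let Mb : Ideal A' := m.comap ρ
  haveI hMbmax : Mb.IsMaximal := Ideal.comap_isMaximal_of_surjective ρ hρs
  let M : Ideal A := Mb.comap π
  haveI hMmax : M.IsMaximal := Ideal.comap_isMaximal_of_surjective π hπ
  have hmMb : m = Mb.comap (algebraMap B A') := by
    ext y
    show y ∈ m ↔ ρ (algebraMap B A' y) ∈ m
    rw [hρ]
  choose g hg using fun i => hπ (algebraMap B A' (b i))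
  obtain ⟨t', ht'⟩ := hπ (algebraMap B A' t)
  have hgM : ∀ i, g i ∈ M := fun i => by
    show ρ (π (g i)) ∈ m
    rw [hg, hρ]
    exact hb i
  have hϖM : algebraMap R A ϖ ∈ M := by
    show π (algebraMap R A ϖ) ∈ Mb
    rw [hπϖ]
    exact Mb.zero_mem
  have ht'M : t' ∉ M := fun h => ht (by
    have h1 : ρ (π t') ∈ m := h
    rwa [ht', hρ] at h1)
  let I : Ideal A := Ideal.span (Set.range g)
  have hIM : I ≤ M := Ideal.span_le.2 (by rintro _ ⟨i, rfl⟩; exact hgM i)
  -- regularity of the uniformiser modulo `g`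
  have hreg' : ∀ z : Localization.AtPrime M,
      algebraMap A (Localization.AtPrime M) (algebraMap R A ϖ) * z ∈
        I.map (algebraMap A (Localization.AtPrime M)) →
      z ∈ I.map (algebraMap A (Localization.AtPrime M)) := by
    let L := Localization.AtPrime M
    let Lb := Localization.AtPrime Mb
    let φ : L →+* Lb := Localization.localRingHom M Mb π rfl
    have hφs : Function.Surjective φ :=
      (RingHom.surjectiveOnStalks_of_surjective hπ).localRingHom_surjective M Mb rfl
    let w : L := algebraMap A L (algebraMap R A ϖ)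
    have hw : φ w = 0 := by
      show Localization.localRingHom M Mb π rfl (algebraMap A L _) = 0
      rw [Localization.localRingHom_to_map, hπϖ, map_zero]
    have hφk : ∀ z : L, φ z = 0 → ∃ c, c * w = z := by
      intro z hz
      obtain ⟨a, s, rfl⟩ := IsLocalization.exists_mk'_eq M.primeCompl z
      have hz' : Localization.localRingHom M Mb π rfl (IsLocalization.mk' L a s) = 0 := hz
      rw [Localization.localRingHom_mk', IsLocalization.mk'_eq_zero_iff] at hz'
      obtain ⟨⟨u, hu⟩, hua⟩ := hz'
      obtain ⟨u, rfl⟩ := hπ u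
      obtain ⟨c, hc⟩ := hkerϖ (u * a) (by rw [map_mul]; exact hua)
      refine ⟨IsLocalization.mk' L c (⟨u, hu⟩ * s), ?_⟩
      show _ * algebraMap A L (algebraMap R A ϖ) = _
      rw [mul_comm, IsLocalization.mul_mk'_eq_mk'_of_mul, mul_comm, hc,
        IsLocalization.mk'_eq_iff_eq]
      congr 1
      simp only [Submonoid.coe_mul]
      ring
    -- the sequence on the special fibre
    have hfib : IsWeaklyRegular Lb (List.ofFn fun i => φ (algebraMap A L (g i))) := by
      letI : Algebra (Localization.AtPrime m) Lb :=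
        (Localization.localRingHom m Mb (algebraMap B A') hmMb).toAlgebra
      haveI : IsScalarTower B (Localization.AtPrime m) Lb := IsScalarTower.of_algebraMap_eq fun y => by
        show algebraMap B Lb y = Localization.localRingHom m Mb (algebraMap B A') hmMb (algebraMap B _ y)
        rw [Localization.localRingHom_to_map, ← IsScalarTower.algebraMap_apply]
      haveI : Module.Flat B A' := inferInstance
      haveI : Module.Flat (Localization.AtPrime m) Lb :=
        (Module.flat_iff_of_isLocalization (Localization.AtPrime m) m.primeCompl Lb).2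
          (Localization.flat A' Mb.primeCompl)
      have h1 := AcyclicLemma.isWeaklyRegular_of_flat Lb hreg
      rw [← isWeaklyRegular_map_algebraMap_iff (S := Lb)] at h1
      convert h1 using 1
      rw [List.map_ofFn]
      congr 1
      funext i
      show Localization.localRingHom M Mb π rfl (algebraMap A L (g i)) =
        algebraMap (Localization.AtPrime m) Lb (algebraMap B _ (b i))
      rw [Localization.localRingHom_to_map, hg, ← IsScalarTower.algebraMap_apply,
        ← IsScalarTower.algebraMap_apply B (Localization.AtPrime m) Lb]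
    letI : Algebra L Lb := φ.toAlgebra
    let gs : List L := List.ofFn fun i => algebraMap A L (g i)
    have hfib' : IsWeaklyRegular Lb gs := by
      rw [← isWeaklyRegular_map_algebraMap_iff (S := Lb)]
      convert hfib using 1
      rw [List.map_ofFn]
      rfl
    let φl : L →ₗ[L] Lb := Algebra.linearMap L Lb
    have hkφ : (w • (⊤ : Submodule L L)) = LinearMap.ker φl := by
      ext z
      rw [LinearMap.mem_ker, Submodule.mem_smul_pointwise_iff_exists]
      refine ⟨fun ⟨c, _, hc⟩ => ?_, fun hz => ?_⟩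
      · subst hc
        show φ (w • c) = 0
        rw [smul_eq_mul, map_mul, hw, zero_mul]
      · obtain ⟨c, hc⟩ := hφk z hz
        exact ⟨c, trivial, by rw [smul_eq_mul, mul_comm]; exact hc⟩
    let eq : QuotSMulTop w L ≃ₗ[L] Lb :=
      (Submodule.quotEquivOfEq _ _ hkφ).trans (φl.quotKerEquivOfSurjective hφs)
    have hw_reg : IsSMulRegular L w := by
      haveI : Module.Flat R L := Localization.flat A M.primeCompl
      intro x y hxy
      have h0 : IsSMulRegular L ϖ := Module.IsTorsionFree.isSMulRegular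
        (isRegular_iff_ne_zero.2 hϖ.ne_zero)
      refine h0 ?_
      show ϖ • x = ϖ • y
      rw [← algebraMap_smul A ϖ x, ← algebraMap_smul A ϖ y, ← algebraMap_smul L (algebraMap R A ϖ) x,
        ← algebraMap_smul L (algebraMap R A ϖ) y]
      exact hxy
    have h1 : IsWeaklyRegular L (w :: gs) :=
      IsWeaklyRegular.cons hw_reg ((eq.isWeaklyRegular_congr gs).2 hfib')
    have hmem : ∀ r ∈ w :: gs, r ∈ maximalIdeal L := by
      intro r hr
      rcases List.mem_cons.1 hr with rfl | hr
      · exact (IsLocalization.AtPrime.to_map_mem_maximal_iff L M _).2 hϖM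
      · obtain ⟨i, rfl⟩ := List.mem_ofFn.1 hr
        exact (IsLocalization.AtPrime.to_map_mem_maximal_iff L M _).2 (hgM i)
    haveI : IsNoetherianRing L := IsLocalization.isNoetherianRing M.primeCompl L inferInstance
    have h2 := IsLocalRing.isWeaklyRegular_of_perm_of_subset_maximalIdeal h1
      (List.perm_append_singleton w gs).symm hmem
    rw [isWeaklyRegular_append_iff, isWeaklyRegular_singleton_iff] at h2
    have hof : Ideal.ofList gs = I.map (algebraMap A L) := by
      rw [Ideal.map_span, ← Set.range_comp]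
      refine congrArg Ideal.span ?_
      ext z
      simp [gs, List.mem_ofFn, eq_comm]
    intro z hz
    have h3 : w • (Submodule.Quotient.mk z : L ⧸ (Ideal.ofList gs • ⊤ : Submodule L L)) = w • 0 := by
      rw [smul_zero, ← Submodule.Quotient.mk_smul, Submodule.Quotient.mk_eq_zero, smul_eq_mul,
        Ideal.mul_top, hof, smul_eq_mul]
      exact hz
    have h4 := h2.2 h3
    rwa [Submodule.Quotient.mk_eq_zero, smul_eq_mul, Ideal.mul_top, hof] at h4
  -- the quotient by `g`
  let M' : Ideal (A ⧸ I) := M.map (Ideal.Quotient.mk I)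
  have hM'c : M'.comap (Ideal.Quotient.mk I) = M := by
    rw [Ideal.comap_map_of_surjective _ Ideal.Quotient.mk_surjective, ← RingHom.ker_eq_comap_bot,
      Ideal.mk_ker, sup_eq_left.2 hIM]
  haveI hM'p : M'.IsPrime := Ideal.map_isPrime_of_surjective Ideal.Quotient.mk_surjective
    (by rw [Ideal.mk_ker]; exact hIM)
  have hM'R : M'.comap (algebraMap R (A ⧸ I)) = maximalIdeal R := by
    refine ((maximalIdeal.isMaximal R).eq_of_le (Ideal.comap_ne_top _ hM'p.ne_top) ?_).symm
    rw [hmR, Ideal.span_singleton_le_iff_mem]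
    show Ideal.Quotient.mk I (algebraMap R A ϖ) ∈ M'
    exact Ideal.mem_map_of_mem _ hϖM
  haveI : Algebra.QuasiFiniteAt R M' := by
    refine (Algebra.quasiFiniteAt_iff_isOpen_singleton_fiber ⟨M', hM'p⟩).mpr ?_
    have ho := (PrimeSpectrum.isOpen_basicOpen (a := Ideal.Quotient.mk I t')).preimage
      (continuous_subtype_val (p := fun Q : PrimeSpectrum (A ⧸ I) =>
        Q ∈ PrimeSpectrum.comap (algebraMap R (A ⧸ I)) ⁻¹'
          {PrimeSpectrum.comap (algebraMap R (A ⧸ I)) ⟨M', hM'p⟩}))
    convert ho using 1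
    ext Q
    simp only [Set.mem_singleton_iff, Set.mem_preimage, SetLike.mem_coe, PrimeSpectrum.mem_basicOpen,
      Subtype.ext_iff]
    refine ⟨fun hQ hmem => ht'M ?_, fun hQ => PrimeSpectrum.ext ?_⟩
    · rw [hQ] at hmem
      rw [← hM'c]
      exact hmem
    · obtain ⟨Q, hQR⟩ := Q
      show Q.asIdeal = M'
      let Q0 : Ideal A := Q.asIdeal.comap (Ideal.Quotient.mk I)
      have hQc : (PrimeSpectrum.comap (algebraMap R (A ⧸ I)) Q).asIdeal = maximalIdeal R := by
        rw [show PrimeSpectrum.comap (algebraMap R (A ⧸ I)) Q =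
          PrimeSpectrum.comap (algebraMap R (A ⧸ I)) ⟨M', hM'p⟩ from hQR]
        exact hM'R
      have hϖQ : algebraMap R A ϖ ∈ Q0 := by
        have : ϖ ∈ (PrimeSpectrum.comap (algebraMap R (A ⧸ I)) Q).asIdeal := by
          rw [hQc, hmR]; exact Ideal.mem_span_singleton_self ϖ
        exact this
      have hkQ : RingHom.ker π ≤ Q0 := fun a ha => by
        obtain ⟨c, rfl⟩ := hkerϖ a ha
        exact Q0.mul_mem_left c hϖQ
      haveI : Q0.IsPrime := Ideal.comap_isPrime _ _
      haveI hP : (Q0.map π).IsPrime := Ideal.map_isPrime_of_surjective hπ hkQ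
      have hPc : (Q0.map π).comap π = Q0 := by
        rw [Ideal.comap_map_of_surjective π hπ, ← RingHom.ker_eq_comap_bot, sup_eq_left.2 hkQ]
      let P0 : Ideal B := (Q0.map π).comap (algebraMap B A')
      have htP : t ∉ P0 := fun h => by
        have h1 : π t' ∈ Q0.map π := by rw [ht']; exact h
        have h2 : t' ∈ Q0 := by rw [← hPc]; exact h1
        exact hQ h2
      have hbP : Ideal.span (Set.range b) ≤ P0 := Ideal.span_le.2 (by
        rintro _ ⟨i, rfl⟩
        show algebraMap B A' (b i) ∈ Q0.map π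
        rw [← hg]
        refine Ideal.mem_map_of_mem _ ?_
        show Ideal.Quotient.mk I (g i) ∈ Q.asIdeal
        rw [Ideal.Quotient.eq_zero_iff_mem.2 (Ideal.subset_span ⟨i, rfl⟩ : g i ∈ I)]
        exact Q.asIdeal.zero_mem)
      haveI : P0.IsPrime := Ideal.comap_isPrime _ _
      have hmP : m ≤ P0 := fun x hx =>
        ((Ideal.IsPrime.mem_or_mem inferInstance (hbP (htm x hx))).resolve_left htP)
      have hMbP : Mb ≤ Q0.map π := fun x hx => by
        have h1 : IsNilpotent (x - algebraMap B A' (ρ x)) := hnil _ (by rw [map_sub, hρ, sub_self])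
        have h2 : x - algebraMap B A' (ρ x) ∈ Q0.map π := by
          obtain ⟨n, hn⟩ := h1
          exact hP.mem_of_pow_mem n (hn ▸ Submodule.zero_mem _)
        have := add_mem h2 (show algebraMap B A' (ρ x) ∈ Q0.map π from hmP hx)
        simpa using this
      have hMQ : M ≤ Q0 := fun a ha => hPc.le (hMbP ha)
      have hQ0 : Q0 = M := (hMmax.eq_of_le (Ideal.IsPrime.ne_top inferInstance) hMQ).symm
      rw [show M' = M.map (Ideal.Quotient.mk I) from rfl, ← hQ0,
        Ideal.map_comap_of_surjective _ Ideal.Quotient.mk_surjective]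
  haveI : Module.Finite R (Localization.AtPrime M') := Hensel.finite_localization M' hM'R
  let C := Localization.AtPrime M'
  let θA : A →ₐ[R] C := (IsScalarTower.toAlgHom R (A ⧸ I) C).comp (Ideal.Quotient.mkₐ R I)
  have hθunit : ∀ s : A, s ∉ M → IsUnit (θA s) := fun s hs =>
    IsLocalization.map_units (M := M'.primeCompl) C ⟨Ideal.Quotient.mk I s, fun h => hs (hM'c.le h)⟩
  have hθsurj : ∀ z : C, ∃ a s : A, s ∉ M ∧ z * θA s = θA a := by
    intro z
    obtain ⟨a, ⟨s, hs⟩, rfl⟩ := IsLocalization.exists_mk'_eq M'.primeCompl z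
    obtain ⟨a, rfl⟩ := Ideal.Quotient.mk_surjective a
    obtain ⟨s, rfl⟩ := Ideal.Quotient.mk_surjective s
    exact ⟨a, s, fun h => hs (Ideal.mem_map_of_mem _ h), IsLocalization.mk'_spec C _ _⟩
  have hθzero : ∀ a : A, θA a = 0 ↔ ∃ u, u ∉ M ∧ u * a ∈ I := by
    intro a
    show algebraMap (A ⧸ I) C (Ideal.Quotient.mk I a) = 0 ↔ _
    rw [IsLocalization.map_eq_zero_iff M'.primeCompl]
    refine ⟨fun ⟨⟨u, hu⟩, h⟩ => ?_, fun ⟨u, hu, h⟩ => ?_⟩
    · obtain ⟨u, rfl⟩ := Ideal.Quotient.mk_surjective u
      refine ⟨u, fun h' => hu (Ideal.mem_map_of_mem _ h'), ?_⟩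
      rw [← Ideal.Quotient.eq_zero_iff_mem, map_mul]
      exact h
    · refine ⟨⟨Ideal.Quotient.mk I u, fun h' => hu (hM'c.le h')⟩, ?_⟩
      show Ideal.Quotient.mk I u * Ideal.Quotient.mk I a = 0
      rw [← map_mul, Ideal.Quotient.eq_zero_iff_mem]
      exact h
  have hθϖ : θA (algebraMap R A ϖ) = algebraMap R C ϖ := θA.commutes ϖ
  -- torsion freeness
  have htf : ∀ z : C, algebraMap R C ϖ * z = 0 → z = 0 := by
    intro z hz
    obtain ⟨a, s, hs, hzs⟩ := hθsurj z
    have h1 : θA (algebraMap R A ϖ * a) = 0 := by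
      rw [map_mul, hθϖ, ← hzs, ← mul_assoc, hz, zero_mul]
    obtain ⟨u, hu, hua⟩ := (hθzero _).1 h1
    have h2 : algebraMap A (Localization.AtPrime M) (algebraMap R A ϖ) *
        algebraMap A (Localization.AtPrime M) a ∈ I.map (algebraMap A (Localization.AtPrime M)) := by
      rw [← map_mul]
      exact (IsLocalization.algebraMap_mem_map_algebraMap_iff M.primeCompl _ _ _).2 ⟨u, hu, hua⟩
    obtain ⟨u', hu', hua'⟩ :=
      (IsLocalization.algebraMap_mem_map_algebraMap_iff M.primeCompl _ _ _).1 (hreg' _ h2)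
    refine (hθunit s hs).mul_left_eq_zero.1 ?_
    rw [hzs]
    exact (hθzero a).2 ⟨u', hu', hua'⟩
  -- reduction modulo the uniformiser
  let J : Ideal A' := m.map (algebraMap B A')
  have hbJ : ∀ i, π (g i) ∈ J := fun i => hg i ▸ Ideal.mem_map_of_mem _ (hb i)
  have hIJ : ∀ a ∈ I, π a ∈ J :=
    fun a ha => (Ideal.span_le (I := J.comap π)).2 (by rintro _ ⟨i, rfl⟩; exact hbJ i) ha
  have hinv : ∀ s : A, s ∉ M → ∃ s' : A, π (s' * s - 1) ∈ J := by
    intro s hs
    obtain ⟨y, c, hc, hyc⟩ : ∃ y c, c ∈ m ∧ y * ρ (π s) + c = 1 := hmmax.exists_inv hs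
    obtain ⟨y', hy'⟩ := hπ (algebraMap B A' y)
    have hn : IsNilpotent (Ideal.Quotient.mk J (π (y' * s) - 1)) := by
      have h1 : IsNilpotent (π (y' * s) - algebraMap B A' (y * ρ (π s))) := hnil _ (by
        rw [map_sub, hρ, map_mul, map_mul, hy', hρ, sub_self])
      have h2 : π (y' * s) - 1 =
          (π (y' * s) - algebraMap B A' (y * ρ (π s))) - algebraMap B A' c := by
        rw [← sub_add_eq_sub_sub, ← map_add, hyc, map_one]
      rw [h2, map_sub, Ideal.Quotient.eq_zero_iff_mem.2 (Ideal.mem_map_of_mem _ hc), sub_zero]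
      exact h1.map _
    have hu : IsUnit (Ideal.Quotient.mk J (π (y' * s))) := by
      have := hn.isUnit_add_one
      rwa [map_sub, map_one, sub_add_cancel] at this
    obtain ⟨v, hv⟩ := Ideal.Quotient.mk_surjective (hu.unit⁻¹ : (A' ⧸ J)ˣ).val
    obtain ⟨v, rfl⟩ := hπ v
    refine ⟨v * y', ?_⟩
    rw [← Ideal.Quotient.eq_zero_iff_mem, map_sub, map_one, map_sub, map_one, sub_eq_zero,
      _root_.mul_assoc, map_mul, map_mul, hv]
    exact hu.val_inv_mul
  -- elements reducing into `J` become divisible by the uniformiser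
  have hK1 : ∀ a, π a ∈ J → algebraMap R C ϖ ∣ θA a := by
    intro a ha
    have h1 : algebraMap B A' t * π a ∈ (Ideal.span (Set.range b)).map (algebraMap B A') := by
      refine Submodule.span_induction (p := fun x _ => algebraMap B A' t * x ∈
        (Ideal.span (Set.range b)).map (algebraMap B A')) ?_ (by simp) ?_ ?_ ha
      · rintro _ ⟨x, hx, rfl⟩
        rw [← map_mul]
        exact Ideal.mem_map_of_mem _ (htm x hx)
      · intro x y _ _ hx hy
        rw [mul_add]; exact add_mem hx hy
      · intro c x _ hx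
        rw [smul_eq_mul, mul_left_comm]; exact Ideal.mul_mem_left _ c hx
    have h2 : π (t' * a) ∈ I.map π := by
      rw [map_mul, ht']
      have : (Ideal.span (Set.range b)).map (algebraMap B A') = I.map π := by
        rw [Ideal.map_span, Ideal.map_span, ← Set.range_comp, ← Set.range_comp]
        congr 2
        funext i
        exact (hg i).symm
      rwa [this] at h1
    obtain ⟨i₀, hi₀, hie⟩ := (Ideal.mem_map_iff_of_surjective π hπ).1 h2
    obtain ⟨c, hc⟩ := hkerϖ (t' * a - i₀) (by rw [map_sub, hie, sub_self])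
    refine (hθunit t' ht'M).dvd_mul_left.1 ⟨θA c, ?_⟩
    rw [← map_mul, show t' * a = c * algebraMap R A ϖ + i₀ by rw [hc, sub_add_cancel], map_add, map_mul,
      hθϖ, (hθzero i₀).2 ⟨1, fun h => hMmax.ne_top ((Ideal.eq_top_iff_one M).2 h), by rwa [one_mul]⟩,
      add_zero, mul_comm]
  have hK2 : ∀ a, algebraMap R C ϖ ∣ θA a → π a ∈ J := by
    rintro a ⟨z, hz⟩
    obtain ⟨a', s, hs, hzs⟩ := hθsurj z
    have h1 : θA (a * s - algebraMap R A ϖ * a') = 0 := by
      rw [map_sub, map_mul, map_mul, hθϖ, ← hzs, hz]; ring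
    obtain ⟨u, hu, hua⟩ := (hθzero _).1 h1
    have h2 := hIJ _ hua
    rw [map_mul, map_sub, map_mul, map_mul, hπϖ, zero_mul, sub_zero] at h2
    obtain ⟨v, hv⟩ := hinv (u * s) fun h => (Ideal.IsPrime.mem_or_mem inferInstance h).elim hu hs
    rw [map_sub, map_mul, map_mul, map_one] at hv
    have h3 := sub_mem (J.mul_mem_left (π v) h2) (J.mul_mem_right (π a) hv)
    rw [show π a = π v * (π u * (π a * π s)) - (π v * (π u * π s) - 1) * π a by ring]
    exact h3
  -- a basis
  let β := Module.Free.chooseBasis B A'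
  choose e he using fun i => hπ (β i)
  let θ : (Module.Free.ChooseBasisIndex B A' → R) →ₗ[R] C := Fintype.linearCombination R fun i => θA (e i)
  have hθapp : ∀ v, θ v = θA (∑ i, algebraMap R A (v i) * e i) := fun v => by
    simp [θ, Fintype.linearCombination_apply, map_sum, map_mul, Algebra.smul_def]
  have hπsum : ∀ v : Module.Free.ChooseBasisIndex B A' → R, π (∑ i, algebraMap R A (v i) * e i) =
      ∑ i, algebraMap (ResidueField R) B (residue R (v i)) • β i := fun v => by
    rw [map_sum]
    refine Finset.sum_congr rfl fun i _ => ?_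
    rw [map_mul, hπR, he, Algebra.smul_def, ← IsScalarTower.algebraMap_apply]
  have hJrepr : ∀ x ∈ J, ∀ i, β.repr x i ∈ m := by
    intro x hx i
    have hx' : x ∈ m • (⊤ : Submodule B A') := by
      rw [Ideal.smul_top_eq_map]
      exact hx
    have h1 := Submodule.mem_map_of_mem (f := β.coord i) hx'
    rw [Submodule.map_smul''] at h1
    exact Submodule.smul_le.2 (fun r hr n _ => Ideal.mul_mem_right n _ hr) h1
  have hθs : Function.Surjective θ := by
    rw [← LinearMap.range_eq_top]
    refine top_le_iff.1 (Submodule.le_of_le_smul_of_le_jacobson_bot Module.Finite.fg_top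
      (jacobson_eq_maximalIdeal ⊥ bot_ne_top).ge fun z _ => ?_)
    obtain ⟨a, s, hs, hzs⟩ := hθsurj z
    obtain ⟨s', hs'⟩ := hinv s hs
    choose v hv using fun i => residue_surjective (R := R) (ε (β.repr (π (s' * a)) i))
    refine Submodule.mem_sup.2 ⟨θ v, LinearMap.mem_range_self θ v, z - θ v, ?_, add_sub_cancel _ _⟩
    suffices h : algebraMap R C ϖ ∣ z - θ v by
      obtain ⟨y, hy⟩ := h
      rw [hy, ← Algebra.smul_def]
      exact Submodule.smul_mem_smul (hmR ▸ Ideal.mem_span_singleton_self ϖ) trivial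
    have hsplit : z - θ v =
        θA (s' * a - ∑ i, algebraMap R A (v i) * e i) - z * θA (s' * s - 1) := by
      rw [hθapp]
      simp only [map_sub, map_mul, map_one]
      rw [← hzs]
      ring
    rw [hsplit]
    refine dvd_sub (hK1 _ ?_) (dvd_mul_of_dvd_right (hK1 _ hs') z)
    rw [map_sub, hπsum]
    nth_rewrite 1 [← β.sum_repr (π (s' * a))]
    rw [← Finset.sum_sub_distrib]
    refine Submodule.sum_mem _ fun i _ => ?_
    rw [← sub_smul, Algebra.smul_def]
    refine Ideal.mul_mem_right _ _ (Ideal.mem_map_of_mem _ ?_)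
    rw [← hεk, RingHom.mem_ker, map_sub, hεc, hv, sub_self]
  have hθi : Function.Injective θ := by
    rw [← LinearMap.ker_eq_bot]
    refine Submodule.eq_bot_of_le_smul_of_le_jacobson_bot (maximalIdeal R) _
      (IsNoetherian.noetherian _) ?_ (jacobson_eq_maximalIdeal ⊥ bot_ne_top).ge
    intro v hv
    rw [LinearMap.mem_ker] at hv
    have h1 : π (∑ i, algebraMap R A (v i) * e i) ∈ J := hK2 _ (by rw [← hθapp, hv]; exact dvd_zero _)
    rw [hπsum] at h1
    have h2 : ∀ i, ∃ w, ϖ * w = v i := fun i => by
      have h3 := hJrepr _ h1 i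
      rw [β.repr_sum_self, ← hεk, RingHom.mem_ker, hεc, residue_eq_zero_iff, hmR,
        Ideal.mem_span_singleton'] at h3
      obtain ⟨w, hw⟩ := h3
      exact ⟨w, by rw [mul_comm]; exact hw⟩
    choose w hw using h2
    have hvw : v = ϖ • w := funext fun i => (hw i).symm
    rw [hvw]
    refine Submodule.smul_mem_smul (hmR ▸ Ideal.mem_span_singleton_self ϖ) ?_
    rw [LinearMap.mem_ker]
    refine htf _ ?_
    rw [← Algebra.smul_def, ← map_smul, ← hvw, hv]
  have hrank : Module.finrank R C = Module.finrank B A' := by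
    rw [← (LinearEquiv.ofBijective θ ⟨hθi, hθs⟩).finrank_eq, Module.finrank_fintype_fun_eq_card,
      Module.finrank_eq_card_basis β]
  rw [← hrank]
  refine rank_mem C H fun p _ hp => ?_
  let P : Ideal A := p.comap θA.toRingHom
  haveI : P.IsPrime := Ideal.comap_isPrime _ _
  have hsos : θA.toRingHom.SurjectiveOnStalks :=
    (RingHom.surjectiveOnStalks_of_isLocalization (M := M'.primeCompl) C).comp
      (RingHom.surjectiveOnStalks_of_surjective Ideal.Quotient.mk_surjective)
  rw [finrank_quotient_eq θA hsos p P rfl]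
  by_cases h0 : Module.finrank R P.ResidueField = 0
  · rw [h0]; exact H.zero_mem
  · refine hH P ?_ h0
    rw [← hp]
    ext r
    show θA (algebraMap R A r) ∈ p ↔ algebraMap R C r ∈ p
    rw [θA.commutes]

end Groth.Agent.IndexMultLib
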