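import Mathlib
import Groth.Agent.IndexMultLib.Core

/-!
# The affine statement: multiplicities of the special fibre and degrees of closed points
-/

set_option autoImplicit false
set_option backward.isDefEq.respectTransparency false
set_option linter.style.haveILetI false

universe u

open IsLocalRing

namespace Groth.Agent.IndexMultLib

/-- A localisation of a finite type algebra over a perfect field at an element outside a given minimal
prime which is smooth modulo that prime and in which the prime is the only minimal one. -/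
theorem exists_away_smooth {k S : Type u} [Field k] [PerfectField k] [CommRing S] [Algebra k S]
    [Algebra.FiniteType k S] (q : Ideal S) [q.IsPrime] (hq : q ∈ minimalPrimes S) :
    ∃ f : S, f ∉ q ∧ (∀ q' ∈ minimalPrimes S, f ∉ q' → q' = q) ∧
      Algebra.Smooth k (Localization.Away (Ideal.Quotient.mk q f)) := by
  classical
  haveI : IsNoetherianRing S := Algebra.FiniteType.isNoetherianRing k S
  have hfin : (minimalPrimes S).Finite := minimalPrimes.finite_of_isNoetherianRing S
  have hsep : ∀ q' ∈ hfin.toFinset.erase q, ∃ x, x ∈ q' ∧ x ∉ q := by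
    intro q' hq'
    rw [Finset.mem_erase, hfin.mem_toFinset] at hq'
    by_contra hc
    push Not at hc
    exact hq'.1 (le_antisymm hc (hq.2 hq'.2.1 hc))
  choose! x hx hxq using hsep
  let s0 := ∏ q' ∈ hfin.toFinset.erase q, x q'
  have hs0 : s0 ∉ q := Submonoid.prod_mem q.primeCompl fun q' hq' => hxq q' hq'
  let D := S ⧸ q
  haveI : Algebra.FiniteType k D := inferInstance
  haveI : Algebra.FinitePresentation k D := Algebra.FinitePresentation.of_finiteType.mp inferInstance
  haveI hbot : (⊥ : Ideal D).IsPrime := Ideal.isPrime_bot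
  haveI : Ring.KrullDimLE 0 (Localization.AtPrime (⊥ : Ideal D)) :=
    .of_isLocalization (⊥ : Ideal D)
      (show (⊥ : Ideal D) ∈ minimalPrimes D by rw [IsDomain.minimalPrimes_eq_singleton_bot]; rfl) _
  letI : Field (Localization.AtPrime (⊥ : Ideal D)) := Ring.KrullDimLE.isField_of_isReduced.toField
  have hsm : (⟨⊥, hbot⟩ : PrimeSpectrum D) ∈ Algebra.smoothLocus k D := by
    haveI : Algebra.EssFiniteType k (Localization.AtPrime (⊥ : Ideal D)) :=
      Algebra.EssFiniteType.comp k D (Localization.AtPrime (⊥ : Ideal D))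
    show Algebra.FormallySmooth k (Localization.AtPrime (⊥ : Ideal D))
    exact Algebra.FormallySmooth.of_perfectField
  obtain ⟨_, ⟨f, rfl⟩, hf, hfsub⟩ := PrimeSpectrum.isTopologicalBasis_basic_opens.exists_subset_of_mem_open
    hsm (Algebra.isOpen_smoothLocus (R := k) (A := D))
  obtain ⟨f0, rfl⟩ := Ideal.Quotient.mk_surjective f
  have hf0 : f0 ∉ q := fun h => hf (by
    show Ideal.Quotient.mk q f0 ∈ (⊥ : Ideal D)
    rw [Ideal.Quotient.eq_zero_iff_mem.2 h]
    exact Submodule.zero_mem _)
  refine ⟨f0 * s0, fun h => (Ideal.IsPrime.mem_or_mem inferInstance h).elim hf0 hs0, ?_, ?_⟩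
  · intro q' hq' hmem
    by_contra hne
    obtain ⟨c, hc⟩ := Finset.dvd_prod_of_mem x
      (show q' ∈ hfin.toFinset.erase q from Finset.mem_erase.2 ⟨hne, hfin.mem_toFinset.2 hq'⟩)
    refine hmem (q'.mul_mem_left f0 ?_)
    show (∏ q' ∈ hfin.toFinset.erase q, x q') ∈ q'
    rw [hc]
    exact q'.mul_mem_right c (hx q' (Finset.mem_erase.2 ⟨hne, hfin.mem_toFinset.2 hq'⟩))
  · refine Algebra.basicOpen_subset_smoothLocus_iff_smooth.mp (Set.Subset.trans ?_ hfsub)
    rw [map_mul]
    exact PrimeSpectrum.basicOpen_mul_le_left _ _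

set_option maxHeartbeats 1600000 in
/-- The affine statement. -/
theorem affine {R : Type u} [CommRing R] [IsDomain R] [IsDiscreteValuationRing R] [HenselianLocalRing R]
    [IsAlgClosed (ResidueField R)] {A : Type u} [CommRing A] [Algebra R A] [Algebra.FiniteType R A]
    [Module.Flat R A] {S : Type u} [CommRing S] [Algebra (ResidueField R) S]
    [Algebra.FiniteType (ResidueField R) S] (π : A →+* S) (hπ : Function.Surjective π)
    (hπR : ∀ r, π (algebraMap R A r) = algebraMap (ResidueField R) S (residue R r))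
    (hker : RingHom.ker π ≤ (maximalIdeal R).map (algebraMap R A))
    (q : Ideal S) [q.IsPrime] (hq : q ∈ minimalPrimes S) (H : AddSubgroup ℤ)
    (hH : ∀ (P : Ideal A) [P.IsPrime], P.comap (algebraMap R A) = ⊥ →
      Module.finrank R P.ResidueField ≠ 0 → (Module.finrank R P.ResidueField : ℤ) ∈ H) :
    ∃ ℓ : ℕ, Module.length (Localization.AtPrime q) (Localization.AtPrime q) = ℓ ∧ (ℓ : ℤ) ∈ H := by
  classical
  let k := ResidueField R
  obtain ⟨f1, hf1, hf1min, hsm⟩ := exists_away_smooth (k := k) q hq
  haveI : IsNoetherianRing S := Algebra.FiniteType.isNoetherianRing k S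
  let C1 := Localization.Away f1
  let B1 := Localization.Away (Ideal.Quotient.mk q f1)
  haveI : Algebra.Smooth k B1 := hsm
  have hfne : Ideal.Quotient.mk q f1 ≠ 0 := fun h => hf1 (Ideal.Quotient.eq_zero_iff_mem.1 h)
  haveI : IsDomain B1 := IsLocalization.isDomain_localization
    (powers_le_nonZeroDivisors_of_noZeroDivisors hfne)
  let π1 : C1 →ₐ[k] B1 :=
    { IsLocalization.Away.map C1 B1 (Ideal.Quotient.mk q) f1 with
      commutes' := fun c => by
        show IsLocalization.Away.map C1 B1 (Ideal.Quotient.mk q) f1 (algebraMap k C1 c) = _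
        rw [IsScalarTower.algebraMap_apply k S C1, IsLocalization.Away.map, IsLocalization.map_eq,
          IsScalarTower.algebraMap_apply k (S ⧸ q) B1]
        rfl }
  have hπ1c : ∀ a : S, π1 (algebraMap S C1 a) = algebraMap (S ⧸ q) B1 (Ideal.Quotient.mk q a) :=
    fun a => by
      show IsLocalization.Away.map C1 B1 (Ideal.Quotient.mk q) f1 (algebraMap S C1 a) = _
      rw [IsLocalization.Away.map, IsLocalization.map_eq]
  have hπ1s : Function.Surjective π1 := by
    intro y
    obtain ⟨a, ⟨_, n, rfl⟩, rfl⟩ := IsLocalization.exists_mk'_eq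
      (Submonoid.powers (Ideal.Quotient.mk q f1)) y
    obtain ⟨a, rfl⟩ := Ideal.Quotient.mk_surjective a
    refine ⟨IsLocalization.mk' C1 a (⟨f1 ^ n, n, rfl⟩ : Submonoid.powers f1), ?_⟩
    show IsLocalization.Away.map C1 B1 (Ideal.Quotient.mk q) f1 (IsLocalization.mk' C1 a _) = _
    rw [IsLocalization.Away.map, IsLocalization.map_mk']
    congr 1
  have hπ1q : ∀ a : S, π1 (algebraMap S C1 a) = 0 ↔ a ∈ q := by
    intro a
    rw [hπ1c, IsLocalization.map_eq_zero_iff (Submonoid.powers (Ideal.Quotient.mk q f1))]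
    refine ⟨?_, fun ha => ⟨1, by rw [Ideal.Quotient.eq_zero_iff_mem.2 ha, mul_zero]⟩⟩
    rintro ⟨⟨_, n, rfl⟩, hn⟩
    rcases mul_eq_zero.1 hn with h | h
    · exact absurd h (pow_ne_zero n hfne)
    · exact Ideal.Quotient.eq_zero_iff_mem.1 h
  have hnil1 : ∀ z : C1, π1 z = 0 → IsNilpotent z := by
    intro z hz
    rw [nilpotent_iff_mem_prime]
    intro P hP
    obtain ⟨a, ⟨_, n, rfl⟩, rfl⟩ := IsLocalization.exists_mk'_eq (Submonoid.powers f1) z
    have ha : a ∈ q := by
      rw [← hπ1q]
      rw [← IsLocalization.mk'_spec C1 a (⟨f1 ^ n, n, rfl⟩ : Submonoid.powers f1), map_mul, hz,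
        zero_mul]
    have hf1P : f1 ∉ P.comap (algebraMap S C1) := fun h =>
      hP.ne_top (P.eq_top_of_isUnit_mem h (IsLocalization.Away.algebraMap_isUnit f1))
    obtain ⟨q', hq', hle⟩ := Ideal.exists_minimalPrimes_le
      (J := P.comap (algebraMap S C1)) (bot_le : (⊥ : Ideal S) ≤ _)
    have hqq : q' = q := hf1min q' hq' fun h => hf1P (hle h)
    rw [← Ideal.mul_unit_mem_iff_mem P (IsLocalization.map_units C1
      (⟨f1 ^ n, n, rfl⟩ : Submonoid.powers f1)), IsLocalization.mk'_spec]
    exact hle (hqq ▸ ha)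
  haveI : IsNoetherianRing C1 := IsLocalization.isNoetherianRing (Submonoid.powers f1) C1 inferInstance
  have hkn : IsNilpotent (RingHom.ker (π1 : C1 →+* B1)) :=
    (Ideal.FG.isNilpotent_iff_le_nilradical (IsNoetherian.noetherian _)).2
      fun z hz => mem_nilradical.2 (hnil1 z hz)
  let σ : B1 →ₐ[k] C1 := Algebra.FormallySmooth.liftOfSurjective (AlgHom.id k B1) π1 hπ1s hkn
  have hσ : ∀ b, π1 (σ b) = b := fun b =>
    Algebra.FormallySmooth.liftOfSurjective_apply (AlgHom.id k B1) π1 hπ1s hkn b
  letI : Algebra B1 C1 := σ.toRingHom.toAlgebra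
  haveI : IsScalarTower k B1 C1 := IsScalarTower.of_algebraMap_eq fun c => (σ.commutes c).symm
  haveI : Algebra.FiniteType k C1 :=
    Algebra.FiniteType.trans (S := S) inferInstance
      (IsLocalization.finiteType_of_monoid_fg (Submonoid.powers f1) C1)
  haveI : Algebra.FiniteType B1 C1 := Algebra.FiniteType.of_restrictScalars_finiteType k B1 C1
  haveI : Algebra.IsIntegral B1 C1 := ⟨fun z => by
    have hn : IsNilpotent (z - σ (π1 z)) := hnil1 _ (by rw [map_sub, hσ, sub_self])
    obtain ⟨n, hn⟩ := hn
    have h1 : IsIntegral B1 (z - σ (π1 z)) := by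
      refine IsIntegral.of_pow n.succ_pos ?_
      rw [pow_succ, hn, zero_mul]
      exact isIntegral_zero
    rw [← sub_add_cancel z (σ (π1 z))]
    exact h1.add (isIntegral_algebraMap (R := B1) (A := C1) (x := π1 z))⟩
  haveI : Module.Finite B1 C1 := Algebra.IsIntegral.finite
  haveI : IsNoetherianRing B1 := Algebra.FiniteType.isNoetherianRing k B1
  haveI : Module.FinitePresentation B1 C1 := Module.finitePresentation_of_finite B1 C1
  -- the generic fibre of the section
  let K := FractionRing B1
  let E := Localization (Algebra.algebraMapSubmonoid C1 (nonZeroDivisors B1))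
  letI : Algebra K E := localizationAlgebra (nonZeroDivisors B1) C1
  haveI : IsScalarTower B1 K E := IsScalarTower.of_algebraMap_eq' (IsLocalization.map_comp _).symm
  let fE : C1 →ₗ[B1] E := (IsScalarTower.toAlgHom B1 C1 E).toLinearMap
  haveI : IsLocalizedModule (nonZeroDivisors B1) fE :=
    isLocalizedModule_iff_isLocalization.mpr inferInstance
  haveI : Module.Finite K E := Module.Finite.of_isLocalizedModule (nonZeroDivisors B1) (Rₚ := K) fE
  obtain ⟨h, hh, hfree, hrank⟩ := Module.FinitePresentation.exists_free_localizedModule_powers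
    (nonZeroDivisors B1) fE K
  -- the length
  let q1 : Ideal C1 := RingHom.ker (π1 : C1 →+* B1)
  haveI : q1.IsPrime := RingHom.ker_isPrime _
  have hEunit : ∀ z : C1, π1 z ≠ 0 → IsUnit (algebraMap C1 E z) := by
    intro z hz
    have hn : IsNilpotent (algebraMap C1 E (z - σ (π1 z))) :=
      (hnil1 _ (by rw [map_sub, hσ, sub_self])).map _
    have hu : IsUnit (algebraMap C1 E (σ (π1 z))) := IsLocalization.map_units E
      (⟨σ (π1 z), π1 z, mem_nonZeroDivisors_of_ne_zero hz, rfl⟩ :
        Algebra.algebraMapSubmonoid C1 (nonZeroDivisors B1))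
    have := IsNilpotent.isUnit_add_left_of_commute hn hu (Commute.all _ _)
    rwa [← map_add, add_sub_cancel] at this
  haveI hEat : IsLocalization.AtPrime E q1 := by
    refine IsLocalization.of_le (Algebra.algebraMapSubmonoid C1 (nonZeroDivisors B1)) q1.primeCompl ?_
      fun z hz => hEunit z hz
    rintro _ ⟨b, hb, rfl⟩
    show ¬ π1 (σ b) = 0
    rw [hσ]
    exact nonZeroDivisors.ne_zero hb
  haveI : IsLocalization.AtPrime E q := by
    have h1 := IsLocalization.isLocalization_isLocalization_atPrime_isLocalization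
      (Submonoid.powers f1) E q1
    have hqc : q1.comap (algebraMap S C1) = q := by
      ext a
      exact hπ1q a
    simp only [Ideal.under_def, hqc] at h1
    exact h1
  haveI : IsLocalRing E := IsLocalization.AtPrime.isLocalRing E q
  haveI : IsLocalHom (algebraMap K E) := ⟨fun c hc => isUnit_iff_ne_zero.2 fun h0 => by
    rw [h0, map_zero] at hc
    exact not_isUnit_zero hc⟩
  have hres : Module.length (ResidueField K) (ResidueField E) = 1 := by
    have hs : Function.Surjective (algebraMap (ResidueField K) (ResidueField E)) := by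
      intro y
      obtain ⟨e, rfl⟩ := residue_surjective y
      obtain ⟨a, t, rfl⟩ := IsLocalization.exists_mk'_eq
        (Algebra.algebraMapSubmonoid C1 (nonZeroDivisors B1)) e
      obtain ⟨t, b, hb, hbt⟩ := t
      subst hbt
      refine ⟨residue K (IsLocalization.mk' K (π1 a) ⟨b, hb⟩), ?_⟩
      show residue E (algebraMap K E (IsLocalization.mk' K (π1 a) ⟨b, hb⟩)) = _
      rw [show algebraMap K E = IsLocalization.map E (algebraMap B1 C1) _ from rfl, IsLocalization.map_mk']
      have hsub : ∀ (x y : C1) (t : Algebra.algebraMapSubmonoid C1 (nonZeroDivisors B1)),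
          IsLocalization.mk' E x t - IsLocalization.mk' E y t = IsLocalization.mk' E (x - y) t :=
        fun x y t => by
          rw [IsLocalization.eq_mk'_iff_mul_eq, sub_mul, IsLocalization.mk'_spec, IsLocalization.mk'_spec,
            map_sub]
      rw [← sub_eq_zero, ← map_sub, residue_eq_zero_iff, hsub]
      refine (IsLocalRing.mem_maximalIdeal _).2 (IsNilpotent.not_isUnit ?_)
      obtain ⟨n, hn⟩ := hnil1 (σ (π1 a) - a) (by rw [map_sub, hσ, sub_self])
      refine ⟨n, ?_⟩
      rw [← IsLocalization.mk'_pow]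
      show IsLocalization.mk' E ((σ (π1 a) - a) ^ n) _ = 0
      rw [hn, IsLocalization.mk'_zero]
    let e := LinearEquiv.ofBijective (Algebra.linearMap (ResidueField K) (ResidueField E))
      ⟨(algebraMap (ResidueField K) (ResidueField E)).injective, hs⟩
    rw [← e.length_eq, Module.length_eq_finrank, Module.finrank_self, Nat.cast_one]
  have hlen : Module.length (Localization.AtPrime q) (Localization.AtPrime q) =
      (Module.finrank K E : ℕ∞) := by
    rw [length_congr (IsLocalization.algEquiv q.primeCompl (Localization.AtPrime q) E).toRingEquiv]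
    have h1 := IsLocalRing.length_restrictScalars K E E
    rw [hres, mul_one] at h1
    rw [← h1, Module.length_eq_finrank]
  refine ⟨Module.finrank K E, hlen, ?_⟩
  -- spreading out
  let B2 := Localization (Submonoid.powers h)
  have hh0 : h ≠ 0 := nonZeroDivisors.ne_zero hh
  haveI : IsDomain B2 := IsLocalization.isDomain_localization
    (powers_le_nonZeroDivisors_of_noZeroDivisors hh0)
  let M2 := Algebra.algebraMapSubmonoid C1 (Submonoid.powers h)
  let C2 := Localization M2
  letI : Algebra B2 C2 := localizationAlgebra (Submonoid.powers h) C1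
  haveI : IsScalarTower B1 B2 C2 := IsScalarTower.of_algebraMap_eq' (R := B1) (S := B2) (A := C2)
    (IsLocalization.map_comp (show Submonoid.powers h ≤ (Algebra.algebraMapSubmonoid C1 (Submonoid.powers h)).comap (algebraMap B1 C1) from Submonoid.le_comap_map _)).symm
  let f2 : C1 →ₗ[B1] C2 := (IsScalarTower.toAlgHom B1 C1 C2).toLinearMap
  haveI : IsLocalizedModule (Submonoid.powers h) f2 :=
    isLocalizedModule_iff_isLocalization.mpr inferInstance
  let e2 : LocalizedModule.Away h C1 ≃ₗ[B2] C2 :=
    (IsLocalizedModule.iso (Submonoid.powers h) f2).extendScalarsOfIsLocalization (Submonoid.powers h) B2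
  haveI : Module.Free B2 C2 := Module.Free.of_equiv e2
  haveI : Module.Finite B2 C2 := Module.Finite.of_isLocalizedModule (Submonoid.powers h) (Rₚ := B2) f2
  haveI : IsScalarTower k B2 C2 := IsScalarTower.of_algebraMap_eq (R := k) (S := B2) (A := C2) fun c => by
    rw [IsScalarTower.algebraMap_apply k B1 B2, ← IsScalarTower.algebraMap_apply B1 B2 C2,
      IsScalarTower.algebraMap_apply B1 C1 C2, ← IsScalarTower.algebraMap_apply k B1 C1,
      ← IsScalarTower.algebraMap_apply k C1 C2]
  haveI : Algebra.Smooth B1 B2 := Algebra.Smooth.of_isLocalization_Away h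
  haveI : Algebra.Smooth k B2 := Algebra.Smooth.comp k B1 B2
  have hρu : ∀ y : M2, IsUnit (((algebraMap B1 B2).comp π1.toRingHom) y.1) := by
    rintro ⟨_, b, hb, rfl⟩
    show IsUnit (algebraMap B1 B2 (π1 (σ b)))
    rw [hσ]
    exact IsLocalization.map_units B2 (⟨b, hb⟩ : Submonoid.powers h)
  let ρ : C2 →+* B2 := IsLocalization.lift hρu
  have hρσ : ∀ b, ρ (algebraMap B2 C2 b) = b := fun b => by
    refine RingHom.congr_fun (IsLocalization.ringHom_ext (Submonoid.powers h)
      (j := ρ.comp (algebraMap B2 C2)) (k := RingHom.id B2) (RingHom.ext fun x => ?_)) b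
    show ρ (algebraMap B2 C2 (algebraMap B1 B2 x)) = algebraMap B1 B2 x
    rw [← IsScalarTower.algebraMap_apply B1 B2 C2, IsScalarTower.algebraMap_apply B1 C1 C2]
    show IsLocalization.lift hρu (algebraMap C1 C2 (σ x)) = _
    rw [IsLocalization.lift_eq]
    show algebraMap B1 B2 (π1 (σ x)) = _
    rw [hσ]
  have hρnil : ∀ z, ρ z = 0 → IsNilpotent z := by
    intro z hz
    obtain ⟨a, t, rfl⟩ := IsLocalization.exists_mk'_eq M2 z
    have h0 : π1 a = 0 := by
      have h1 : ρ (algebraMap C1 C2 a) = 0 := by
        rw [← IsLocalization.mk'_spec C2 a t, map_mul, hz, zero_mul]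
      have h2 : algebraMap B1 B2 (π1 a) = 0 := by
        rw [← h1]
        exact (IsLocalization.lift_eq hρu a).symm
      exact (IsLocalization.injective B2 (powers_le_nonZeroDivisors_of_noZeroDivisors hh0))
        (h2.trans (map_zero _).symm)
    obtain ⟨n, hn⟩ := hnil1 a h0
    exact ⟨n, by rw [← IsLocalization.mk'_pow, hn, IsLocalization.mk'_zero]⟩
  -- the same localisation as a localisation of `S`
  obtain ⟨a, ⟨_, n, rfl⟩, hahat⟩ := IsLocalization.exists_mk'_eq (Submonoid.powers f1) (σ h)
  have hassoc : Associated (algebraMap B1 C1 h) (algebraMap S C1 a) := by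
    have hu := IsLocalization.map_units C1 (⟨f1 ^ n, n, rfl⟩ : Submonoid.powers f1)
    refine ⟨hu.unit, ?_⟩
    show σ h * _ = _
    rw [IsUnit.unit_spec, ← hahat, IsLocalization.mk'_spec]
  haveI : IsLocalization.Away (algebraMap B1 C1 h) C2 := by
    show IsLocalization (Submonoid.powers (algebraMap B1 C1 h)) C2
    rw [← Algebra.algebraMapSubmonoid_powers]
    exact inferInstanceAs (IsLocalization M2 (Localization M2))
  haveI : IsLocalization.Away (algebraMap S C1 a) C2 := IsLocalization.Away.of_associated hassoc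
  haveI : IsLocalization.Away (f1 * a) C2 := IsLocalization.Away.mul' C1 C2 f1 a
  obtain ⟨g, hg⟩ := hπ (f1 * a)
  haveI : IsLocalization.Away (π g) C2 := by rw [hg]; infer_instance
  let A2 := Localization.Away g
  haveI : Algebra.FiniteType R A2 := Algebra.FiniteType.trans (S := A) inferInstance
    (IsLocalization.finiteType_of_monoid_fg (Submonoid.powers g) A2)
  haveI : Module.Flat R A2 := Localization.flat A (Submonoid.powers g)
  let π2 : A2 →+* C2 := IsLocalization.Away.map A2 C2 π g
  have hπ2c : ∀ x, π2 (algebraMap A A2 x) = algebraMap S C2 (π x) := fun x => IsLocalization.map_eq _ x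
  have hπ2s : Function.Surjective π2 := by
    intro y
    obtain ⟨c, ⟨_, j, rfl⟩, rfl⟩ := IsLocalization.exists_mk'_eq (Submonoid.powers (π g)) y
    obtain ⟨c, rfl⟩ := hπ c
    refine ⟨IsLocalization.mk' A2 c (⟨g ^ j, j, rfl⟩ : Submonoid.powers g), ?_⟩
    show IsLocalization.Away.map A2 C2 π g (IsLocalization.mk' A2 c _) = _
    rw [IsLocalization.Away.map, IsLocalization.map_mk']
    congr 1
    exact Subtype.ext (map_pow π g j)
  have hπ2k : RingHom.ker π2 ≤ (maximalIdeal R).map (algebraMap R A2) := by
    intro z hz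
    obtain ⟨c, ⟨_, j, rfl⟩, rfl⟩ := IsLocalization.exists_mk'_eq (Submonoid.powers g) z
    rw [IsScalarTower.algebraMap_eq R A A2, ← Ideal.map_map,
      IsLocalization.mk'_mem_map_algebraMap_iff (Submonoid.powers g)]
    have hz' : π2 (algebraMap A A2 c) = 0 := by
      rw [← IsLocalization.mk'_spec A2 c (⟨g ^ j, j, rfl⟩ : Submonoid.powers g), map_mul,
        RingHom.mem_ker.1 hz, zero_mul]
    rw [hπ2c, IsLocalization.map_eq_zero_iff (Submonoid.powers (π g))] at hz'
    obtain ⟨⟨_, i, rfl⟩, hi⟩ := hz'
    refine ⟨g ^ i, ⟨i, rfl⟩, hker ?_⟩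
    rw [RingHom.mem_ker, map_mul, map_pow]
    exact hi
  have hπ2R : ∀ r, π2 (algebraMap R A2 r) = algebraMap k C2 (residue R r) := by
    intro r
    rw [IsScalarTower.algebraMap_apply R A A2, hπ2c, hπR, ← IsScalarTower.algebraMap_apply k S C2]
  have hfin : Module.finrank B2 C2 = Module.finrank K E := by
    rw [← hrank]
    exact e2.finrank_eq.symm
  rw [← hfin]
  refine core π2 hπ2s hπ2R hπ2k ρ hρσ hρnil H fun P _ hP hP0 => ?_
  let P0 : Ideal A := P.comap (algebraMap A A2)
  haveI : P0.IsPrime := Ideal.comap_isPrime _ _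
  let e3 : P0.ResidueField ≃ₗ[R] P.ResidueField :=
    LinearEquiv.ofBijective (Ideal.ResidueField.mapₐ P0 P (IsScalarTower.toAlgHom R A A2) rfl).toLinearMap
      ((RingHom.surjectiveOnStalks_of_isLocalization (M := Submonoid.powers g) A2).residueFieldMap_bijective
        P0 P rfl)
  rw [← e3.finrank_eq] at hP0 ⊢
  refine hH P0 ?_ hP0
  rw [← hP, IsScalarTower.algebraMap_eq R A A2, ← Ideal.comap_comap]

end Groth.Agent.IndexMultLib
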